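import Mathlib

/-! Exterior powers and base change of rings. -/

universe u

noncomputable section

open scoped TensorProduct

namespace ExtBC

variable {A B M N : Type u} [CommRing A] [CommRing B] [Algebra A B]
  [AddCommGroup M] [Module A M] [AddCommGroup N] [Module A N] [Module B N] [IsScalarTower A B N]

/-- The `A`-alternating map `v ↦ f v₁ ∧ … ∧ f v_p` over `B`. -/
def wedgeRestrict (f : M →ₗ[A] N) (p : ℕ) : M [⋀^Fin p]→ₗ[A] ↥(⋀[B]^p N) where
  __ := (((exteriorPower.ιMulti B p (M := N)).toMultilinearMap.restrictScalars A).compLinearMap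
    fun _ => f)
  map_eq_zero_of_eq' v i j h hij := by
    show exteriorPower.ιMulti B p (fun k => f (v k)) = 0
    exact (exteriorPower.ιMulti B p).map_eq_zero_of_eq _ (congrArg f h) hij

/-- The induced map of exterior powers. -/
def mapRestrict (f : M →ₗ[A] N) (p : ℕ) : ↥(⋀[A]^p M) →ₗ[A] ↥(⋀[B]^p N) :=
  exteriorPower.alternatingMapLinearEquiv (wedgeRestrict f p)

theorem mapRestrict_ιMulti (f : M →ₗ[A] N) (p : ℕ) (v : Fin p → M) :
    mapRestrict f p (exteriorPower.ιMulti A p v) = exteriorPower.ιMulti B p (fun k => f (v k)) :=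
  exteriorPower.alternatingMapLinearEquiv_apply_ιMulti _ _

variable (e : B ⊗[A] M ≃ₗ[B] N)

/-- `m ↦ e (1 ⊗ m)`. -/
def incl : M →ₗ[A] N := (e.toLinearMap.restrictScalars A).comp (TensorProduct.mk A B M 1)

omit [Module A N] [IsScalarTower A B N] in
theorem sq_zero (x : B ⊗[A] M) :
    (ExteriorAlgebra.ι A (M := M)).baseChange B x * (ExteriorAlgebra.ι A (M := M)).baseChange B x = 0 := by
  have anti : ∀ y z : B ⊗[A] M,
      (ExteriorAlgebra.ι A (M := M)).baseChange B y * (ExteriorAlgebra.ι A (M := M)).baseChange B z +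
      (ExteriorAlgebra.ι A (M := M)).baseChange B z * (ExteriorAlgebra.ι A (M := M)).baseChange B y = 0 := by
    intro y z
    induction y with
    | zero => simp
    | add y₁ y₂ h1 h2 =>
      rw [map_add, add_mul, mul_add]
      rw [add_add_add_comm, h1, h2, add_zero]
    | tmul b m =>
      induction z with
      | zero => simp
      | add z₁ z₂ h1 h2 =>
        rw [map_add, add_mul, mul_add]
        rw [add_add_add_comm, h1, h2, add_zero]
      | tmul c n =>
        rw [LinearMap.baseChange_tmul, LinearMap.baseChange_tmul, Algebra.TensorProduct.tmul_mul_tmul,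
          Algebra.TensorProduct.tmul_mul_tmul, mul_comm c b, ← TensorProduct.tmul_add,
          ExteriorAlgebra.ι_add_mul_swap, TensorProduct.tmul_zero]
  induction x with
  | zero => simp
  | add y z hy hz => rw [map_add, add_mul, mul_add, mul_add, hy, hz, zero_add, add_zero, anti]
  | tmul b m =>
    rw [LinearMap.baseChange_tmul, Algebra.TensorProduct.tmul_mul_tmul, ExteriorAlgebra.ι_sq_zero,
      TensorProduct.tmul_zero]

/-- Comparison with the base change of the exterior algebra. -/
def Ψ : ExteriorAlgebra B N →ₐ[B] B ⊗[A] ExteriorAlgebra A M :=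
  ExteriorAlgebra.lift B
    ⟨((ExteriorAlgebra.ι A (M := M)).baseChange B).comp e.symm.toLinearMap, fun _ => sq_zero _⟩

omit [Module A N] [IsScalarTower A B N] in
theorem Ψ_ι (m : M) :
    Ψ e (ExteriorAlgebra.ι B (e (1 ⊗ₜ[A] m))) = 1 ⊗ₜ[A] ExteriorAlgebra.ι A m := by
  simp [Ψ]

theorem Ψ_ιMulti (p : ℕ) (v : Fin p → M) :
    Ψ e (exteriorPower.ιMulti B p (fun k => incl e (v k)) : ExteriorAlgebra B N) =
      1 ⊗ₜ[A] (exteriorPower.ιMulti A p v : ExteriorAlgebra A M) := by
  rw [exteriorPower.ιMulti_apply_coe, exteriorPower.ιMulti_apply_coe, ExteriorAlgebra.ιMulti_apply,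
    ExteriorAlgebra.ιMulti_apply, map_list_prod, List.map_ofFn,
    show (1 : B) ⊗ₜ[A] (List.ofFn fun i => ExteriorAlgebra.ι A (v i)).prod =
      (Algebra.TensorProduct.includeRight : ExteriorAlgebra A M →ₐ[A] B ⊗[A] ExteriorAlgebra A M)
        (List.ofFn fun i => ExteriorAlgebra.ι A (v i)).prod from rfl,
    map_list_prod, List.map_ofFn]
  exact congrArg List.prod (congrArg List.ofFn (funext fun i => Ψ_ι e (v i)))

/-- `B ⊗_A ⋀^p M → ⋀^p_B N`. -/
def chi (p : ℕ) : B ⊗[A] ↥(⋀[A]^p M) →ₗ[B] ↥(⋀[B]^p N) :=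
  (mapRestrict (incl e) p).liftBaseChange B

theorem chi_tmul (p : ℕ) (b : B) (x : ↥(⋀[A]^p M)) :
    chi e p (b ⊗ₜ[A] x) = b • mapRestrict (incl e) p x :=
  LinearMap.liftBaseChange_tmul _ _ _ _

theorem Ψ_chi (p : ℕ) (z : B ⊗[A] ↥(⋀[A]^p M)) :
    Ψ e (chi e p z : ExteriorAlgebra B N) = (⋀[A]^p M).subtype.lTensor B z := by
  induction z with
  | zero => simp
  | add x y hx hy => rw [map_add, Submodule.coe_add, map_add, map_add, hx, hy]
  | tmul b x =>
    rw [chi_tmul, Submodule.coe_smul, map_smul, LinearMap.lTensor_tmul]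
    have key : Ψ e ((mapRestrict (incl e) p x : ↥(⋀[B]^p N)) : ExteriorAlgebra B N) =
        1 ⊗ₜ[A] (x : ExteriorAlgebra A M) := by
      have hx : x ∈ Submodule.span A (Set.range (exteriorPower.ιMulti A p (M := M))) := by
        rw [exteriorPower.ιMulti_span]; trivial
      induction hx using Submodule.span_induction with
      | mem y hy => obtain ⟨v, rfl⟩ := hy; rw [mapRestrict_ιMulti]; exact Ψ_ιMulti e p v
      | zero => simp
      | add y y' _ _ hy hy' =>
        rw [map_add, Submodule.coe_add, map_add, hy, hy', Submodule.coe_add, TensorProduct.tmul_add]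
      | smul a y _ hy =>
        rw [map_smul, Submodule.coe_smul_of_tower, AlgHom.map_smul_of_tower, hy, Submodule.coe_smul,
          TensorProduct.tmul_smul]
    rw [key, TensorProduct.smul_tmul', smul_eq_mul, mul_one]
    rfl

theorem chi_injective (p : ℕ) : Function.Injective (chi e p) := by
  classical
  intro x y h
  have h1 : (⋀[A]^p M).subtype.lTensor B x = (⋀[A]^p M).subtype.lTensor B y := by
    rw [← Ψ_chi e p x, ← Ψ_chi e p y, h]
  let π : ExteriorAlgebra A M →ₗ[A] ↥(⋀[A]^p M) :=
    (DirectSum.component A ℕ (fun i => ↥(⋀[A]^i M)) p).comp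
      (DirectSum.decomposeLinearEquiv (fun i : ℕ => ⋀[A]^i M)).toLinearMap
  have hπ : π.comp (⋀[A]^p M).subtype = LinearMap.id := by
    refine LinearMap.ext fun z => ?_
    apply Subtype.ext
    show ((DirectSum.decompose (fun i : ℕ => ⋀[A]^i M) (z : ExteriorAlgebra A M) p : ↥(⋀[A]^p M)) :
      ExteriorAlgebra A M) = z
    exact DirectSum.decompose_of_mem_same _ z.2
  have h2 := congrArg (π.lTensor B) h1
  rwa [← LinearMap.comp_apply, ← LinearMap.comp_apply, ← LinearMap.lTensor_comp, hπ,
    LinearMap.lTensor_id, LinearMap.id_apply, LinearMap.id_apply] at h2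

theorem chi_surjective (p : ℕ) : Function.Surjective (chi e p) := by
  have hspan : Submodule.span B (Set.range (incl e)) = ⊤ := by
    rw [eq_top_iff]
    intro n _
    obtain ⟨z, rfl⟩ := e.surjective n
    induction z with
    | zero => rw [map_zero]; exact zero_mem _
    | add x y hx hy => rw [map_add]; exact add_mem (hx trivial) (hy trivial)
    | tmul b m =>
      rw [show b ⊗ₜ[A] m = b • ((1 : B) ⊗ₜ[A] m) by rw [TensorProduct.smul_tmul', smul_eq_mul, mul_one],
        map_smul]
      exact Submodule.smul_mem _ b (Submodule.subset_span ⟨m, rfl⟩)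
  rw [← LinearMap.range_eq_top, eq_top_iff, ← exteriorPower.ιMulti_span_of_span B p N hspan,
    Submodule.span_le]
  rintro _ ⟨w, hw, rfl⟩
  choose v hv using fun i => hw (Set.mem_range_self i)
  refine ⟨1 ⊗ₜ[A] exteriorPower.ιMulti A p v, ?_⟩
  rw [chi_tmul, one_smul, mapRestrict_ιMulti]
  exact congrArg _ (funext hv)

end ExtBC
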