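import Mathlib
import Groth.Prelude.Def_DeRham
import Groth.Agent.ExtBCLib.Main

/-! Additive maps on forms are determined by their values on the standard generators. -/

universe u

noncomputable section

open scoped TensorProduct

namespace ExtBC

theorem smulCommClass' (S A B : Type u) [CommRing S] [CommRing A] [CommRing B] [Algebra S B] [Algebra A B] :
    SMulCommClass S A B :=
  ⟨fun s a b => by rw [Algebra.smul_def, Algebra.smul_def, Algebra.smul_def, Algebra.smul_def, mul_left_comm]⟩

theorem addHom_ext_gen {R A : Type u} [CommRing R] [CommRing A] [Algebra R A] {p : ℕ}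
    {N : Type*} [AddCommGroup N] (f g : ↥(⋀[A]^p (Ω[A⁄R])) →+ N)
    (h : ∀ (b₀ : A) (b : Fin p → A), f (DeRham.gen (KaehlerDifferential.D R A) p b₀ b) =
      g (DeRham.gen (KaehlerDifferential.D R A) p b₀ b)) : f = g := by
  refine AddMonoidHom.ext fun x => ?_
  have hspan := exteriorPower.ιMulti_span_of_span A p (Ω[A⁄R]) (KaehlerDifferential.span_range_derivation R A)
  have hx := (eq_top_iff.mp hspan) (Submodule.mem_top (x := x))
  rw [Submodule.mem_span_set'] at hx
  obtain ⟨n, c, w, rfl⟩ := hx
  rw [map_sum, map_sum]
  refine Finset.sum_congr rfl fun j _ => ?_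
  obtain ⟨v, hv, hvw⟩ := (w j).2
  choose a ha using fun i => hv (Set.mem_range_self i)
  rw [← hvw, ← funext ha]
  exact h (c j) a

end ExtBC
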