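import Mathlib

/-!
# Base change of `Ext¹(Ω, R)` for a module with a short projective resolution
-/

set_option autoImplicit false
set_option linter.unusedSectionVars false
set_option linter.style.haveILetI false
set_option maxSynthPendingDepth 3

universe u

open CategoryTheory
open scoped TensorProduct

namespace ExtBCLib

section ext

variable {R : Type u} [CommRing R] {c m : ℕ}

/-- `Ext¹` of a presentation with free kernel and middle a retract of a free module. -/
theorem exists_extOneEquiv {M Ω : Type u} [AddCommGroup M] [Module R M] [AddCommGroup Ω] [Module R Ω]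
    (i : (Fin c → R) →ₗ[R] M) (p : M →ₗ[R] Ω) (hp : Function.Surjective p) (hex : Function.Exact i p)
    (hinj : Function.Injective i) (s : M →ₗ[R] (Fin m → R)) (π : (Fin m → R) →ₗ[R] M) (hπ : π ∘ₗ s = LinearMap.id) :
    Nonempty (((Fin c → R) ⧸ LinearMap.range (Matrix.of fun l j => s (i (Pi.single l 1)) j).mulVecLin) ≃ₗ[R]
      Abelian.Ext.{u} (ModuleCat.of R Ω) (ModuleCat.of R R) 1) := by
  classical
  haveI : Module.Projective R M := Module.Projective.of_split s π hπ
  let S : ShortComplex (ModuleCat.{u} R) := ShortComplex.mk (ModuleCat.ofHom i) (ModuleCat.ofHom p) (by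
    ext x; exact hex.apply_apply_eq_zero _)
  have hS : S.ShortExact :=
    { exact := (ShortComplex.ShortExact.moduleCat_exact_iff_function_exact _).2 hex
      mono_f := (ModuleCat.mono_iff_injective _).2 hinj
      epi_g := (ModuleCat.epi_iff_surjective _).2 hp }
  haveI : Projective S.X₂ := (IsProjective.iff_projective M).1 inferInstance
  let D : ((Fin c → R) →ₗ[R] R) →ₗ[R] Abelian.Ext.{u} S.X₃ (ModuleCat.of R R) 1 :=
    { toFun := fun φ => hS.extClass.comp (Abelian.Ext.mk₀ (ModuleCat.ofHom φ : S.X₁ ⟶ ModuleCat.of R R)) (add_zero 1)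
      map_add' := fun φ ψ => by rw [ModuleCat.ofHom_add, Abelian.Ext.mk₀_add, Abelian.Ext.comp_add]
      map_smul' := fun b φ => by
        rw [RingHom.id_apply, ← Abelian.Ext.comp_smul, ← Abelian.Ext.mk₀_smul]
        rfl }
  have hD : Function.Surjective D := fun x => by
    obtain ⟨x₁, hx₁⟩ := Abelian.Ext.contravariant_sequence_exact₃ hS _ x (Abelian.Ext.eq_zero_of_projective _)
      (n₀ := 0) (add_zero 1)
    obtain ⟨f, rfl⟩ := Abelian.Ext.mk₀_bijective _ _ |>.2 x₁
    exact ⟨f.hom, hx₁⟩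
  have hDker : ∀ φ, D φ = 0 ↔ ∃ ψ : M →ₗ[R] R, ψ ∘ₗ i = φ := by
    intro φ
    constructor
    · intro h
      obtain ⟨x₂, hx₂⟩ := Abelian.Ext.contravariant_sequence_exact₁ hS _
        (Abelian.Ext.mk₀ (ModuleCat.ofHom φ : S.X₁ ⟶ ModuleCat.of R R)) (add_zero 1) h
      obtain ⟨g, rfl⟩ := Abelian.Ext.mk₀_bijective _ _ |>.2 x₂
      rw [Abelian.Ext.mk₀_comp_mk₀] at hx₂
      exact ⟨g.hom, congrArg ModuleCat.Hom.hom ((Abelian.Ext.mk₀_bijective _ _).1 hx₂)⟩
    · rintro ⟨ψ, rfl⟩
      show hS.extClass.comp (Abelian.Ext.mk₀ (S.f ≫ ModuleCat.ofHom ψ)) (add_zero 1) = 0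
      rw [← Abelian.Ext.mk₀_comp_mk₀]
      exact hS.extClass_comp_assoc _
  let δ : (Fin c → R) →ₗ[R] ((Fin c → R) →ₗ[R] R) := (LinearMap.lsum R (fun _ : Fin c => R) R).toLinearMap ∘ₗ
    LinearMap.pi fun j => (LinearMap.ringLmapEquivSelf R R R).symm.toLinearMap ∘ₗ LinearMap.proj j
  have hδ : ∀ (w : Fin c → R) l, δ w (Pi.single l 1) = w l := fun w l => by
    simp [δ, Pi.single_apply]
  let E : (Fin c → R) →ₗ[R] Abelian.Ext.{u} S.X₃ (ModuleCat.of R R) 1 := D ∘ₗ δ
  have hE : Function.Surjective E := fun x => by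
    obtain ⟨φ, rfl⟩ := hD x
    refine ⟨fun l => φ (Pi.single l 1), congrArg D (LinearMap.pi_ext' fun l => LinearMap.ext_ring ?_)⟩
    simpa using hδ (fun l => φ (Pi.single l 1)) l
  have hker : LinearMap.ker E = LinearMap.range (Matrix.of fun l j => s (i (Pi.single l 1)) j).mulVecLin := by
    ext w
    rw [LinearMap.mem_ker, LinearMap.comp_apply, hDker, LinearMap.mem_range]
    constructor
    · rintro ⟨ψ, hψ⟩
      refine ⟨fun j => ψ (π (Pi.single j 1)), funext fun l => ?_⟩
      have := LinearMap.congr_fun hψ (Pi.single l 1)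
      rw [hδ, LinearMap.comp_apply] at this
      rw [← this, show i (Pi.single l 1) = π (s (i (Pi.single l 1))) from (LinearMap.congr_fun hπ _).symm]
      conv_rhs => rw [pi_eq_sum_univ' (s (i (Pi.single l 1)))]
      simp [map_sum, Matrix.mulVec, dotProduct]
    · rintro ⟨y, rfl⟩
      refine ⟨(∑ j, y j • LinearMap.proj j) ∘ₗ s, LinearMap.pi_ext' fun l => LinearMap.ext_ring ?_⟩
      simp only [LinearMap.comp_apply, LinearMap.coe_single]
      rw [hδ]
      simp [Matrix.mulVec, dotProduct, mul_comm]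
  exact ⟨(Submodule.quotEquivOfEq _ _ hker.symm).trans (E.quotKerEquivOfSurjective hE)⟩

end ext

section coker

variable {R : Type u} [CommRing R] {c r : ℕ} (I : Ideal R) (P : Matrix (Fin c) (Fin r) R)

/-- Base change of the cokernel of a matrix. -/
theorem exists_cokerEquiv :
    Nonempty ((R ⧸ I) ⊗[R] ((Fin c → R) ⧸ LinearMap.range P.mulVecLin) ≃ₗ[R ⧸ I]
      ((Fin c → R ⧸ I) ⧸ LinearMap.range (P.map (Ideal.Quotient.mk I)).mulVecLin)) := by
  classical
  set Pn := P.map (Ideal.Quotient.mk I) with hPn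
  let red : (Fin c → R) →ₗ[R] (Fin c → R ⧸ I) := LinearMap.pi fun i => (Ideal.Quotient.mkₐ R I).toLinearMap ∘ₗ LinearMap.proj i
  have hred : ∀ y, red (P.mulVec y) = Pn.mulVec fun j => Ideal.Quotient.mk I (y j) := fun y => by
    funext i
    simp [red, hPn, Matrix.mulVec, dotProduct, map_sum]
  let F0 : ((Fin c → R) ⧸ LinearMap.range P.mulVecLin) →ₗ[R] ((Fin c → R ⧸ I) ⧸ LinearMap.range Pn.mulVecLin) :=
    (LinearMap.range P.mulVecLin).liftQ (((LinearMap.range Pn.mulVecLin).mkQ.restrictScalars R).comp red) (by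
      rintro _ ⟨y, rfl⟩
      rw [LinearMap.mem_ker, LinearMap.comp_apply, LinearMap.restrictScalars_apply, Submodule.mkQ_apply,
        Submodule.Quotient.mk_eq_zero, Matrix.mulVecLin_apply, hred]
      exact ⟨_, rfl⟩)
  let F := F0.liftBaseChange (R ⧸ I)
  let G0 : (Fin c → R ⧸ I) →ₗ[R ⧸ I] (R ⧸ I) ⊗[R] ((Fin c → R) ⧸ LinearMap.range P.mulVecLin) :=
    Fintype.linearCombination (R ⧸ I) fun i => (1 : R ⧸ I) ⊗ₜ[R] Submodule.Quotient.mk (Pi.single i 1)
  have hG0 : ∀ y : Fin c → R, G0 (red y) = (1 : R ⧸ I) ⊗ₜ[R] Submodule.Quotient.mk y := fun y => by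
    conv_rhs => rw [pi_eq_sum_univ' y]
    simp only [G0, Fintype.linearCombination_apply, ← Submodule.mkQ_apply, map_sum, map_smul, TensorProduct.tmul_sum,
      TensorProduct.tmul_smul]
    refine Finset.sum_congr rfl fun i _ => ?_
    exact algebraMap_smul (R ⧸ I) (y i) ((1 : R ⧸ I) ⊗ₜ[R] (LinearMap.range P.mulVecLin).mkQ (Pi.single i 1))
  let G : ((Fin c → R ⧸ I) ⧸ LinearMap.range Pn.mulVecLin) →ₗ[R ⧸ I] _ :=
    (LinearMap.range Pn.mulVecLin).liftQ G0 (by
      rintro _ ⟨y, rfl⟩
      choose z hz using fun j => Ideal.Quotient.mk_surjective (y j)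
      rw [LinearMap.mem_ker, Matrix.mulVecLin_apply, show y = fun j => Ideal.Quotient.mk I (z j) from funext fun j => (hz j).symm,
        ← hred, hG0, show (Submodule.Quotient.mk (P.mulVec z) : (Fin c → R) ⧸ LinearMap.range P.mulVecLin) = 0 from
          (Submodule.Quotient.mk_eq_zero _).2 ⟨z, rfl⟩, TensorProduct.tmul_zero])
  refine ⟨LinearEquiv.ofLinear F G ?_ ?_⟩
  · refine Submodule.linearMap_qext _ (LinearMap.pi_ext' fun i => LinearMap.ext_ring ?_)
    show F (G0 (Pi.single i 1)) = Submodule.Quotient.mk (Pi.single i 1)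
    have : (Pi.single i 1 : Fin c → R ⧸ I) = red (Pi.single i 1) := funext fun j => by
      simp [red, Pi.single_apply, apply_ite (Ideal.Quotient.mk I)]
    rw [this, hG0, LinearMap.liftBaseChange_tmul, one_smul]
    rfl
  · refine TensorProduct.AlgebraTensorModule.curry_injective (LinearMap.ext_ring (LinearMap.ext fun z => ?_))
    obtain ⟨y, rfl⟩ := Submodule.Quotient.mk_surjective _ z
    show G (F ((1 : R ⧸ I) ⊗ₜ[R] Submodule.Quotient.mk y)) = (1 : R ⧸ I) ⊗ₜ[R] Submodule.Quotient.mk y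
    rw [LinearMap.liftBaseChange_tmul, one_smul]
    exact hG0 y

end coker

section main

variable {R : Type u} [CommRing R] (I : Ideal R)

/-- Base change of `Ext¹` along a quotient when the resolution stays exact. -/
theorem main {M0 M1 Ω : Type u} [AddCommGroup M0] [Module R M0] [Module.Finite R M0] [Module.Projective R M0]
    [AddCommGroup M1] [Module R M1] [Module.Finite R M1] [Module.Projective R M1] [AddCommGroup Ω] [Module R Ω]
    (i : M0 →ₗ[R] M1) (p : M1 →ₗ[R] Ω) (hp : Function.Surjective p) (hex : Function.Exact i p)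
    (hinj : Function.Injective i) (hI : Function.Injective (i.baseChange (R ⧸ I)))
    {Ω' : Type u} [AddCommGroup Ω'] [Module (R ⧸ I) Ω'] (e : ((R ⧸ I) ⊗[R] Ω) ≃ₗ[R ⧸ I] Ω') :
    Nonempty ((R ⧸ I) ⊗[R] Abelian.Ext.{u} (ModuleCat.of R Ω) (ModuleCat.of R R) 1 ≃ₗ[R ⧸ I]
      Abelian.Ext.{u} (ModuleCat.of (R ⧸ I) Ω') (ModuleCat.of (R ⧸ I) (R ⧸ I)) 1) := by
  classical
  obtain ⟨c, v, u, -, -, hvu⟩ := Module.Finite.exists_comp_eq_id_of_projective R M0
  let K := LinearMap.ker v
  let q : (Fin c → R) →ₗ[R] K := (LinearMap.id - u ∘ₗ v).codRestrict K fun w => by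
    rw [LinearMap.mem_ker, LinearMap.sub_apply, LinearMap.id_apply, LinearMap.comp_apply, map_sub,
      ← LinearMap.comp_apply v u, hvu, LinearMap.id_apply, sub_self]
  have hqK : q ∘ₗ K.subtype = LinearMap.id := LinearMap.ext fun y => Subtype.ext (by
    show (y : Fin c → R) - u (v y) = y
    rw [LinearMap.mem_ker.1 y.2, map_zero, sub_zero])
  haveI : Module.Finite R K := Module.Finite.of_surjective q fun y => ⟨y, LinearMap.congr_fun hqK y⟩
  haveI : Module.Projective R K := Module.Projective.of_split K.subtype q hqK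
  let i2 : (Fin c → R) →ₗ[R] M1 × K := (i ∘ₗ v).prod q
  let p2 : M1 × K →ₗ[R] Ω := p ∘ₗ LinearMap.fst R M1 K
  have hp2 : Function.Surjective p2 := hp.comp fun x => ⟨(x, 0), rfl⟩
  have hex2 : Function.Exact i2 p2 := fun x => by
    constructor
    · intro hx
      obtain ⟨z, hz⟩ := (hex x.1).1 hx
      refine ⟨u z + x.2, Prod.ext ?_ (Subtype.ext ?_)⟩
      · show i (v (u z + x.2)) = x.1
        rw [map_add, ← LinearMap.comp_apply v u, hvu, LinearMap.mem_ker.1 x.2.2, add_zero, LinearMap.id_apply, hz]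
      · show u z + (x.2 : Fin c → R) - u (v (u z + x.2)) = x.2
        rw [map_add v, ← LinearMap.comp_apply v u, hvu, LinearMap.mem_ker.1 x.2.2, add_zero, LinearMap.id_apply,
          add_sub_cancel_left]
    · rintro ⟨w, rfl⟩
      exact hex.apply_apply_eq_zero (v w)
  have hdec : ∀ w, u (v w) + (q w : Fin c → R) = w := fun w => by
    show u (v w) + (w - u (v w)) = w
    abel
  have hinj2 : Function.Injective i2 := (injective_iff_map_eq_zero _).2 fun w hw => by
    have h1 : v w = 0 := hinj ((congrArg Prod.fst hw).trans (map_zero i).symm)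
    have h2 : (q w : Fin c → R) = 0 := congrArg (fun z : M1 × K => (z.2 : Fin c → R)) hw
    rw [← hdec w, h1, map_zero, h2, add_zero]
  obtain ⟨m, π, s, -, -, hπ⟩ := Module.Finite.exists_comp_eq_id_of_projective R (M1 × K)
  obtain ⟨E⟩ := exists_extOneEquiv i2 p2 hp2 hex2 hinj2 s π hπ
  -- over the quotient
  let R' := R ⧸ I
  let τc := TensorProduct.piScalarRight R R' R' (Fin c)
  let τm := TensorProduct.piScalarRight R R' R' (Fin m)
  let i' : (Fin c → R') →ₗ[R'] R' ⊗[R] (M1 × K) := i2.baseChange R' ∘ₗ τc.symm.toLinearMap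
  let p' : R' ⊗[R] (M1 × K) →ₗ[R'] Ω' := e.toLinearMap ∘ₗ p2.baseChange R'
  let s' : R' ⊗[R] (M1 × K) →ₗ[R'] (Fin m → R') := τm.toLinearMap ∘ₗ s.baseChange R'
  let π' : (Fin m → R') →ₗ[R'] R' ⊗[R] (M1 × K) := π.baseChange R' ∘ₗ τm.symm.toLinearMap
  have hπ' : π' ∘ₗ s' = LinearMap.id := LinearMap.ext fun x => by
    show π.baseChange R' (τm.symm (τm (s.baseChange R' x))) = x
    rw [LinearEquiv.symm_apply_apply, ← LinearMap.comp_apply, ← LinearMap.baseChange_comp, hπ, LinearMap.baseChange_id]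
    rfl
  have hp' : Function.Surjective p' := e.surjective.comp (LinearMap.lTensor_surjective R' hp2)
  have hex' : Function.Exact i' p' := fun x => by
    constructor
    · intro hx
      have h0 : p2.baseChange R' x = 0 := e.injective (hx.trans (map_zero e).symm)
      obtain ⟨z, hz⟩ := (lTensor_exact R' hex2 hp2 x).1 h0
      exact ⟨τc z, by
        show i2.baseChange R' (τc.symm (τc z)) = x
        rw [LinearEquiv.symm_apply_apply]; exact hz⟩
    · rintro ⟨w, rfl⟩
      show e (p2.baseChange R' (i2.baseChange R' (τc.symm w))) = 0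
      rw [show p2.baseChange R' (i2.baseChange R' (τc.symm w)) = 0 from
        (lTensor_exact R' hex2 hp2).apply_apply_eq_zero _, map_zero]
  have hinj' : Function.Injective i' := by
    show Function.Injective (i2.baseChange R' ∘ τc.symm)
    refine Function.Injective.comp ?_ τc.symm.injective
    rw [injective_iff_map_eq_zero]
    intro x hx
    have h1 := congrArg ((LinearMap.fst R M1 K).baseChange R') hx
    rw [map_zero, ← LinearMap.comp_apply, ← LinearMap.baseChange_comp,
      show LinearMap.fst R M1 K ∘ₗ i2 = i ∘ₗ v from rfl, LinearMap.baseChange_comp, LinearMap.comp_apply] at h1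
    have hv : v.baseChange R' x = 0 := hI (h1.trans (map_zero _).symm)
    have h2 := congrArg ((K.subtype ∘ₗ LinearMap.snd R M1 K).baseChange R') hx
    rw [map_zero, ← LinearMap.comp_apply, ← LinearMap.baseChange_comp,
      show (K.subtype ∘ₗ LinearMap.snd R M1 K) ∘ₗ i2 = LinearMap.id - u ∘ₗ v from rfl, LinearMap.baseChange_sub,
      LinearMap.baseChange_id, LinearMap.baseChange_comp, LinearMap.sub_apply, LinearMap.id_apply,
      LinearMap.comp_apply, hv, map_zero, sub_zero] at h2
    exact h2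
  obtain ⟨E'⟩ := exists_extOneEquiv i' p' hp' hex' hinj' s' π' hπ'
  obtain ⟨C0⟩ := exists_cokerEquiv I (Matrix.of fun l j => s (i2 (Pi.single l 1)) j)
  have hmat : (Matrix.of fun l j => s (i2 (Pi.single l 1)) j).map (Ideal.Quotient.mk I) =
      Matrix.of fun l j => s' (i' (Pi.single l 1)) j := by
    ext l j
    have h1 : τc.symm (Pi.single l (1 : R')) = (1 : R') ⊗ₜ[R] (Pi.single l 1 : Fin c → R) := by
      rw [LinearEquiv.symm_apply_eq]
      funext j
      simp [τc, Pi.single_apply, apply_ite (Ideal.Quotient.mk I)]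
    show Ideal.Quotient.mk I (s (i2 (Pi.single l 1)) j) = τm (s.baseChange R' (i2.baseChange R' (τc.symm (Pi.single l 1)))) j
    rw [h1, LinearMap.baseChange_tmul, LinearMap.baseChange_tmul]
    simp [τm, Algebra.smul_def]
    rfl
  rw [hmat] at C0
  exact ⟨(TensorProduct.AlgebraTensorModule.congr (LinearEquiv.refl (R ⧸ I) (R ⧸ I)) E.symm).trans (C0.trans E')⟩

end main

end ExtBCLib
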